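import Cfsg.Agent.Mrg.Omega.NOThreeL.NsF.CountG
import Cfsg.Agent.Mrg.Omega.NOThreeL.NsF.SingerOdd


/-!
# NsF, F3 at group level: `N_G(Z⁺)` normalises `D`

* `exists_gen` : `S / S₀` is cyclic; `card_R` : `|R| = |F|`; `card_D_le` : `|D| ≤ |F|` (from (GD));
* **`norm_D`** : `N_G(Z⁺)` normalises `D` (LEMMA SINGER, `q = 4` included, if there are field automorphisms);
* `not_le_LS` : `¬ (every point of the line comes from Z)` ⟹ `S ≠ S₀`.
-/

set_option autoImplicit false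
set_option linter.unusedSectionVars false

namespace Cfsg.Agent.Omega.NOThreeL.NsF

open Subgroup Cfsg Cfsg.Agent.Omega.MinPar
open Cfsg.Agent.ZN (zc zl o2)
open Cfsg.Agent.Omega.Frame Cfsg.Agent.Omega.FrameNOFF
open Cfsg.Agent.Omega.Node.NO3L Cfsg.Agent.Omega.NOThreeL.Basic
open Cfsg.Agent.Omega.NOThreeL.RTools (cm cm_def conj_mem_of_mem)
open Cfsg.Agent.Omega.NoFF.Basic (conj_conj mem_conj conj_le_iff)
open Cfsg.Agent.Omega.FFThm (NatK ActsSL)
open Cfsg.Agent.Omega.FrameFF (cv)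
open Cfsg.Agent.Omega.HOne (cv_le conj_mem_zl conj_mem_cv)
open Cfsg.Agent.Omega.IId.ThmCQ.Nsp
open Cfsg.Agent.Omega.NOThreeL.RF
open Cfsg.Agent.Omega.NOThreeL.RF.GD (sgHom ker_sgHom)
open Cfsg.Agent.Lib.SL2Mat
open Cfsg.Agent.MinSimple.VModule (mem_zc o2_isPGroup le_normalizer_o2 le_o2)
open scoped Pointwise

universe u

variable {G : Type u} [Group G] [Finite G] {F : Type} [Field F] [Finite F] [CharP F 2] {S : Sylow 2 G}
  {P H : Subgroup G} {M : NatK F (S : Subgroup G) P (zl (S : Subgroup G) P) (cv (S : Subgroup G) P) 1}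

/-- `S / S₀` is cyclic -/
theorem exists_gen (q : Sit F S P 1) : ∃ s₀ ∈ (S : Subgroup G), ∀ s ∈ (S : Subgroup G), ∃ k : ℤ,
    s * (s₀ ^ k)⁻¹ ∈ LS M := by
  have hc : IsCyclic (F ≃+* F) := Cfsg.Agent.StdRank2.OutField.isCyclic
  have hcr : IsCyclic (sgHom S q.h M).range := inferInstance
  obtain ⟨⟨g, hg⟩, hgen⟩ := hcr.exists_generator
  obtain ⟨s₀, rfl⟩ := id hg
  refine ⟨s₀, s₀.2, fun s hs => ?_⟩
  obtain ⟨k, hk⟩ := mem_zpowers_iff.mp (hgen ⟨sgHom S q.h M ⟨s, hs⟩, ⟨s, hs⟩, rfl⟩)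
  have hk' : sgHom S q.h M s₀ ^ k = sgHom S q.h M ⟨s, hs⟩ := congrArg Subtype.val hk
  refine ⟨k, ?_⟩
  have h1 : (⟨s, hs⟩ * (s₀ ^ k)⁻¹ : ↥(S : Subgroup G)) ∈ (sgHom S q.h M).ker := by
    rw [MonoidHom.mem_ker, map_mul, map_inv, map_zpow, hk', mul_inv_cancel]
  rw [ker_sgHom q.hG S q.h M, mem_subgroupOf, mem_SL_of q] at h1
  exact h1

theorem card_R (q : Sit F S P 1) : Nat.card (Rt M) = Nat.card F := by
  refine Nat.card_congr (Equiv.ofBijective (fun r : Rt M => M.e (r : G) 0 0) ⟨?_, ?_⟩)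
  · rintro ⟨r, hr⟩ ⟨s, hs⟩ h
    exact Subtype.ext (R_inj q hr hs h)
  · intro c
    obtain ⟨r, hr, h⟩ := exists_R (M := M) q c
    exact ⟨⟨r, hr⟩, h⟩

/-- **`|D| ≤ |F|`** -/
theorem card_D_le (q : Sit F S P 1) {g : F → G} (hg : IsG M g) (D : HypM S P H) :
    Nat.card (cv (S : Subgroup G) P) ≤ Nat.card F := by
  obtain ⟨hUL, W⟩ := wc_of q (S0_of_R q) (inv_LS q) D (D.Zp_le_U q hg)
  have hne : ¬ zl (S : Subgroup G) P ≤ o2 H := fun h => D.ne (h.trans D.o2_cent)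
  obtain ⟨X, -, hX⟩ := exists_minX (le_refl H) ((LS_le (M := M)).trans D.SH) hne
  obtain ⟨x, hx, ho⟩ := hX.exists_opp W
  have hDX : ∀ d ∈ cv (S : Subgroup G) P, d ∈ centralizer (X : Set G) → d = 1 := by
    intro d hd hdX
    by_contra hd1
    apply hX.not
    have h1 := (GD.gd q M hd hd1).2.1
    have h2 : X ≤ centralizer ({d} : Set G) := fun y hy => by
      rw [mem_centralizer_singleton_iff]
      exact mem_centralizer_iff.1 hdX y hy
    exact Four.le_o2_of_le h2 ((V_LS (M := M) q).trans hX.le) h1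
  have hxD : ∀ d ∈ cv (S : Subgroup G) P, x * d * x⁻¹ ∈ LS M := fun d hd =>
    hUL (hX.conjZp_U W hx (mem_conj' (D_le_Zp hd)))
  have hker : ∀ d ∈ cv (S : Subgroup G) P, bet M (x * d * x⁻¹) = 0 → d = 1 := by
    intro d hd h0
    have h1 : x * d * x⁻¹ ∈ centralizer (X : Set G) := by
      refine hX.mem_of_commV W hx ho (mem_conj' (D_le_Zp hd)) fun a ha => ?_
      exact mem_centralizer_iff.1 ((bet_eq_zero q (hxD d hd)).1 h0) a ha
    have h2 := MinX.conj_cent (inv_mem hx) h1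
    have e1 : x⁻¹ * (x * d * x⁻¹) * x⁻¹⁻¹ = d := by group
    rw [e1] at h2
    exact hDX d hd (by rw [h2]; exact h1)
  refine Nat.card_le_card_of_injective (fun d : cv (S : Subgroup G) P => bet M (x * (d : G) * x⁻¹)) ?_
  rintro ⟨a, ha⟩ ⟨b, hb⟩ h
  have h' : bet M (x * a * x⁻¹) = bet M (x * b * x⁻¹) := h
  have h1 : bet M (x * (a * b) * x⁻¹) = 0 := by
    have e1 : x * (a * b) * x⁻¹ = (x * a * x⁻¹) * (x * b * x⁻¹) := by group
    rw [e1, bet_mul q (hxD a ha) (hxD b hb), h', CharTwo.add_self_eq_zero]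
  have h2 := hker _ (mul_mem ha hb) h1
  apply Subtype.ext
  change a = b
  have h3 : a = b⁻¹ := eq_inv_of_mul_eq_one_left h2
  rw [h3, invV q (cv_le _ _ hb)]

/-- `Z` does not cover the line: there are field automorphisms -/
theorem not_le_LS (q : Sit F S P 1) (h : ¬ ∀ x : F, ∃ z ∈ zc (S : Subgroup G), M.e z 0 = ![x, 0]) :
    ¬ (S : Subgroup G) ≤ LS M := by
  intro hS
  apply h
  intro x
  obtain ⟨r, hr, hr0⟩ := exists_R (M := M) q x
  refine ⟨r, ?_, ?_⟩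
  · have hrZ := R_le_Zp q hr
    rw [mem_zc]
    refine ⟨LS_le (V_LS (M := M) q (Zp_le hrZ)), fun s hs => Zp_comm q hrZ (hS hs), ?_⟩
    have := sqV' q (Zp_le hrZ)
    simpa [pow_two] using this
  · exact NatPair.ext2 hr0 (R_le_Zp q hr).2

section torus

/-- the torus on `Z⁺` -/
def To (_ : Sit F S P 1) (M : NatK F (S : Subgroup G) P (zl (S : Subgroup G) P) (cv (S : Subgroup G) P) 1) :
    Subgroup (normalizer (Zp M : Set G)) where
  carrier := {n | ∃ t : F, t ≠ 0 ∧ ∀ z ∈ Zp M, M.e ((n : G) * z * (n : G)⁻¹) 0 0 = t * M.e z 0 0 ∧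
    eps M ((n : G) * z * (n : G)⁻¹) = eps M z}
  one_mem' := ⟨1, one_ne_zero, fun z _ => by simp⟩
  mul_mem' := by
    rintro a b ⟨t, ht, h1⟩ ⟨s, hs, h2⟩
    refine ⟨t * s, mul_ne_zero ht hs, fun z hz => ?_⟩
    have hbz : (b : G) * z * (b : G)⁻¹ ∈ Zp M := (mem_normalizer_iff.mp b.2 z).mp hz
    have e1 : ((a * b : normalizer (Zp M : Set G)) : G) * z * ((a * b : normalizer (Zp M : Set G)) : G)⁻¹ =
        (a : G) * ((b : G) * z * (b : G)⁻¹) * (a : G)⁻¹ := by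
      rw [coe_mul]; group
    rw [e1, (h1 _ hbz).1, (h1 _ hbz).2, (h2 z hz).1, (h2 z hz).2]
    exact ⟨by ring, rfl⟩
  inv_mem' := by
    rintro a ⟨t, ht, h1⟩
    refine ⟨t⁻¹, inv_ne_zero ht, fun z hz => ?_⟩
    have hbz : ((a⁻¹ : normalizer (Zp M : Set G)) : G) * z * ((a⁻¹ : normalizer (Zp M : Set G)) : G)⁻¹ ∈ Zp M :=
      (mem_normalizer_iff.mp (a⁻¹).2 z).mp hz
    obtain ⟨h2, h3⟩ := h1 _ hbz
    have e1 : (a : G) * (((a⁻¹ : normalizer (Zp M : Set G)) : G) * z *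
        ((a⁻¹ : normalizer (Zp M : Set G)) : G)⁻¹) * (a : G)⁻¹ = z := by
      rw [coe_inv]; group
    rw [e1] at h2 h3
    refine ⟨?_, h3.symm⟩
    rw [h2, inv_mul_cancel_left₀ ht]

end torus

/-- **`N_G(Z⁺)` normalises `D`** -/
theorem norm_D_of (q : Sit F S P 1) (hDF : Nat.card (cv (S : Subgroup G) P) ≤ Nat.card F)
    (hS : Nat.card F = 4 → ¬ (S : Subgroup G) ≤ LS M) :
    ∀ x ∈ normalizer (Zp M : Set G), MulAut.conj x • cv (S : Subgroup G) P = cv (S : Subgroup G) P := by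
  classical
  have hcomm : ∀ a b : ↥(Zp M), a * b = b * a := fun a b => Subtype.ext (V_comm q (Zp_le a.2) (Zp_le b.2))
  let _inst : CommGroup ↥(Zp M) := { (inferInstance : Group ↥(Zp M)) with mul_comm := hcomm }
  let φ : ↥(normalizer (Zp M : Set G)) →* MulAut ↥(Zp M) := (Zp M).normalizerMonoidHom
  have hφ : ∀ (n : ↥(normalizer (Zp M : Set G))) (z : ↥(Zp M)), ((φ n z : ↥(Zp M)) : G) = (n : G) * z * (n : G)⁻¹ :=
    fun _ _ => rfl
  have hφ1 : ∀ n : ↥(normalizer (Zp M : Set G)), (∀ z ∈ Zp M, (n : G) * z * (n : G)⁻¹ = z) → φ n = 1 := by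
    intro n h
    ext z
    rw [hφ]
    exact h z z.2
  let S' : Sylow 2 ↥(normalizer (Zp M : Set G)) := S.subtype (S_norm_Zp q)
  have hS' : ∀ n : ↥(normalizer (Zp M : Set G)), n ∈ S' ↔ (n : G) ∈ (S : Subgroup G) := fun n => Iff.rfl
  obtain ⟨s₀, hs₀, hgen⟩ := exists_gen (M := M) q
  have hT : ∀ (n : ↥(normalizer (Zp M : Set G))), n ∈ To q M ↔ ∃ t : F, t ≠ 0 ∧ ∀ z ∈ Zp M,
    M.e ((n : G) * z * (n : G)⁻¹) 0 0 = t * M.e z 0 0 ∧ eps M ((n : G) * z * (n : G)⁻¹) = eps M z := fun _ => Iff.rfl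
  have hqF : Odd (Nat.card F - 1) := by
    have := Fintype.ofFinite F
    have h1 := FiniteField.even_card_of_char_two (F := F) (ringChar.eq F 2)
    have h2 := q.hF
    rw [Nat.card_eq_fintype_card] at h2 ⊢
    rw [Nat.odd_iff]
    omega
  have key := NormD.norm_D_hom (N := ↥(normalizer (Zp M : Set G))) (Z := ↥(Zp M))
    (fun z => Subtype.ext (sqV' q (Zp_le z.2))) φ S' (s₀ := ⟨s₀, S_norm_Zp q hs₀⟩) hs₀
    (by
      intro s hs
      obtain ⟨k, hk⟩ := hgen (s : G) hs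
      refine ⟨k, ?_⟩
      rw [← map_zpow, ← mul_inv_eq_one, ← map_inv, ← map_mul]
      apply hφ1
      intro z hz
      have h1 := Zp_comm q hz hk
      change ((s : G) * (s₀ ^ k)⁻¹) * z * ((s : G) * (s₀ ^ k)⁻¹)⁻¹ = z
      rw [h1, mul_inv_cancel_right])
    (T := To q M) (R := (Rt M).subgroupOf (Zp M)) (D := (cv (S : Subgroup G) P).subgroupOf (Zp M)) hqF
    (by
      rintro n ⟨t, ht, h⟩
      have h1 : ∀ k : ℕ, ∀ z ∈ Zp M, M.e (((n ^ k : ↥(normalizer (Zp M : Set G))) : G) * z *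
          ((n ^ k : ↥(normalizer (Zp M : Set G))) : G)⁻¹) 0 0 = t ^ k * M.e z 0 0 ∧
          eps M (((n ^ k : ↥(normalizer (Zp M : Set G))) : G) * z *
          ((n ^ k : ↥(normalizer (Zp M : Set G))) : G)⁻¹) = eps M z := by
        intro k
        induction k with
        | zero => intro z _; simp
        | succ k ih =>
          intro z hz
          have hz' : ((n ^ k : ↥(normalizer (Zp M : Set G))) : G) * z *
            ((n ^ k : ↥(normalizer (Zp M : Set G))) : G)⁻¹ ∈ Zp M := (mem_normalizer_iff.mp (n ^ k).2 z).mp hz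
          have e1 : ((n ^ (k + 1) : ↥(normalizer (Zp M : Set G))) : G) * z *
              ((n ^ (k + 1) : ↥(normalizer (Zp M : Set G))) : G)⁻¹ =
              (n : G) * (((n ^ k : ↥(normalizer (Zp M : Set G))) : G) * z *
                ((n ^ k : ↥(normalizer (Zp M : Set G))) : G)⁻¹) * (n : G)⁻¹ := by
            rw [pow_succ', coe_mul]; group
          rw [e1, (h _ hz').1, (h _ hz').2, (ih z hz).1, (ih z hz).2]
          exact ⟨by ring, rfl⟩
      have ht1 : t ^ (Nat.card F - 1) = 1 := by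
        have := Fintype.ofFinite F
        rw [Nat.card_eq_fintype_card]
        exact FiniteField.pow_card_sub_one_eq_one t ht
      rw [← map_pow]
      apply hφ1
      intro z hz
      obtain ⟨h2, h3⟩ := h1 (Nat.card F - 1) z hz
      rw [ht1, one_mul] at h2
      exact eq_of_coord q ((mem_normalizer_iff.mp (n ^ (Nat.card F - 1)).2 z).mp hz) hz h2 h3)
    (by
      rw [eq_bot_iff]
      rintro ⟨z, hz⟩ ⟨h1, h2⟩
      exact Subtype.ext (R_inf_D q h1 h2))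
    (by
      rw [eq_top_iff]
      rintro ⟨z, hz⟩ -
      obtain ⟨r, hr, d, hd, rfl⟩ := exists_rd q hz
      exact mem_sup.mpr ⟨⟨r, R_le_Zp q hr⟩, hr, ⟨d, D_le_Zp hd⟩, hd, rfl⟩)
    (by
      rintro n ⟨t, ht, h⟩ ⟨d, hdZ⟩ hd
      have hd' : d ∈ cv (S : Subgroup G) P := hd
      obtain ⟨h2, h3⟩ := h d hdZ
      refine Subtype.ext (eq_of_coord q ((mem_normalizer_iff.mp n.2 d).mp hdZ) hdZ ?_ h3)
      change M.e ((n : G) * d * (n : G)⁻¹) 0 0 = M.e d 0 0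
      rw [h2, e_D hd', mul_zero])
    (by
      rintro n ⟨t, ht, h⟩ ⟨r, hrZ⟩ hr
      have hr' : r ∈ Rt M := hr
      have h3 := (h r hrZ).2
      rw [eps_R q hr'] at h3
      exact (eps_eq_one q ((mem_normalizer_iff.mp n.2 r).mp hrZ)).1 h3)
    (by
      rintro ⟨x, hxZ⟩ hx hx1 ⟨y, hyZ⟩ hy hy1
      have hx' : x ∈ Rt M := hx
      have hy' : y ∈ Rt M := hy
      have hx0 : M.e x 0 0 ≠ 0 := fun h => hx1 (Subtype.ext (R_eq_one q hx' h))
      have hy0 : M.e y 0 0 ≠ 0 := fun h => hy1 (Subtype.ext (R_eq_one q hy' h))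
      have ht : M.e y 0 0 / M.e x 0 0 ≠ 0 := div_ne_zero hy0 hx0
      obtain ⟨w, hwP, hwN, hwA⟩ := tor (M := M) q ht
      have hwZ : w ∈ normalizer (Zp M : Set G) := by
        have h1 : ∀ z ∈ Zp M, w * z * w⁻¹ ∈ Zp M := fun z hz => norm_Zp q hwP hwN hz
        have h2 : ∀ z ∈ Zp M, w⁻¹ * z * w⁻¹⁻¹ ∈ Zp M := fun z hz => norm_Zp q (inv_mem hwP) (inv_mem hwN) hz
        rw [mem_normalizer_iff]
        intro z
        refine ⟨h1 z, fun hz => ?_⟩
        have h3 := h2 _ hz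
        have e1 : w⁻¹ * (w * z * w⁻¹) * w⁻¹⁻¹ = z := by group
        rwa [e1] at h3
      have hcoord : ∀ z ∈ Zp M, M.e (w * z * w⁻¹) 0 0 = M.e y 0 0 / M.e x 0 0 * M.e z 0 0 := by
        intro z hz
        rw [hwA.1 z (Zp_le hz) 0, NatPair.ap_zero', dg_00, dg_01, zero_mul, add_zero]
      refine ⟨⟨w, hwZ⟩, ⟨_, ht, fun z hz => ⟨hcoord z hz, eps_tri q hwP hwN hwA hz⟩⟩, Subtype.ext ?_⟩
      change w * x * w⁻¹ = y
      refine eq_of_coord q ((mem_normalizer_iff.mp hwZ x).mp hxZ) hyZ ?_ ?_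
      · rw [hcoord x hxZ, div_mul_cancel₀ _ hx0]
      · rw [eps_tri q hwP hwN hwA hxZ, eps_R q hx', eps_R q hy'])
    (by
      rintro n ⟨t, ht, h⟩ ⟨x, hxZ⟩ hx hx1 hxx ⟨r, hrZ⟩ hr
      have hx' : x ∈ Rt M := hx
      have hr' : r ∈ Rt M := hr
      have hx0 : M.e x 0 0 ≠ 0 := fun h => hx1 (Subtype.ext (R_eq_one q hx' h))
      have h1 : (n : G) * x * (n : G)⁻¹ = x := congrArg Subtype.val hxx
      have h2 := (h x hxZ).1
      rw [h1] at h2
      have ht1 : t = 1 := (mul_right_cancel₀ hx0 (by rw [one_mul]; exact h2)).symm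
      obtain ⟨h3, h4⟩ := h r hrZ
      rw [ht1, one_mul] at h3
      exact Subtype.ext (eq_of_coord q ((mem_normalizer_iff.mp n.2 r).mp hrZ) hrZ h3 h4))
    (by
      rw [Nat.card_congr (subgroupOfEquivOfLe (R_le_Zp q)).toEquiv, card_R q]
      exact q.hF)
    (by
      rw [Nat.card_congr (subgroupOfEquivOfLe (R_le_Zp q)).toEquiv, card_R q,
        Nat.card_congr (subgroupOfEquivOfLe (D_le_Zp (M := M))).toEquiv]
      exact hDF)
    (by
      rintro s hs ⟨d, hdZ⟩ hd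
      exact conj_mem_cv (q.h.le hs) hd)
    (by
      intro h4
      rw [Nat.card_congr (subgroupOfEquivOfLe (R_le_Zp q)).toEquiv, card_R q] at h4
      have h5 := hS h4
      rw [SetLike.not_le_iff_exists] at h5
      obtain ⟨s, hs, hsL⟩ := h5
      refine ⟨⟨s, S_norm_Zp q hs⟩, hs, fun h6 => hsL ?_⟩
      refine mem_LS_of_line q hs fun v hv => ?_
      have h7 : φ ⟨s, S_norm_Zp q hs⟩ ⟨v, hv⟩ = ⟨v, hv⟩ := by rw [h6]; rfl
      have h8 : s * v * s⁻¹ = v := congrArg Subtype.val h7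
      rw [h8])
  have hle : ∀ x ∈ normalizer (Zp M : Set G), MulAut.conj x • cv (S : Subgroup G) P ≤ cv (S : Subgroup G) P := by
    intro x hx y hy
    rw [mem_conj] at hy
    have h1 := key ⟨x, hx⟩ ⟨x⁻¹ * y * x, D_le_Zp hy⟩ hy
    have h2 : x * (x⁻¹ * y * x) * x⁻¹ ∈ cv (S : Subgroup G) P := h1
    have e1 : x * (x⁻¹ * y * x) * x⁻¹ = y := by group
    rwa [e1] at h2
  intro x hx
  refine le_antisymm (hle x hx) ?_
  have h1 := hle x⁻¹ (inv_mem hx)
  have h2 := Subgroup.pointwise_smul_le_pointwise_smul_iff (a := MulAut.conj x) |>.mpr h1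
  rwa [conj_conj, mul_inv_cancel, map_one, one_smul] at h2

/-- **F3**: the input `hnD` of `Four.of` -/
theorem norm_D (q : Sit F S P 1) {g : F → G} (hg : IsG M g) (D : HypM S P H)
    (hx : ¬ ∀ x : F, ∃ z ∈ zc (S : Subgroup G), M.e z 0 = ![x, 0]) :
    ∀ x ∈ normalizer (Zp M : Set G), MulAut.conj x • cv (S : Subgroup G) P = cv (S : Subgroup G) P :=
  norm_D_of q (card_D_le q hg D) fun _ => not_le_LS q hx

end Cfsg.Agent.Omega.NOThreeL.NsF
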